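import Groth.Agent.ProKos.Kos
import Groth.Agent.KFlatLib.ModuleFlat
import Groth.Agent.H9Misc.DRingLTensor
import Groth.Prelude.Def_ega3

/-! The projection of the Koszul systems on the adic system. -/

set_option autoImplicit false
set_option linter.style.haveILetI false
set_option backward.isDefEq.respectTransparency false

universe u

open CategoryTheory CategoryTheory.Limits CategoryTheory.Pretriangulated CochainComplex Opposite MonoidalCategory

attribute [local instance] HasDerivedCategory.standard

namespace Groth.Agent.ProKos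

open Groth.Agent.RGammaD Groth.Agent.KFlatLib

variable {A : Type u} [CommRing A] (I : Ideal A)

/-- `A` in degree zero. -/
noncomputable abbrev one (A : Type u) [CommRing A] : DRing.Cx A :=
  (HomologicalComplex.single (ModuleCat.{u} A) (ComplexShape.up ℤ) 0).obj (ModuleCat.of A A)

/-- `n ↦ (A/I^(n+1))[0]`. -/
noncomputable abbrev adicCx : Sys A :=
  CohIII.adicSystem I (ModuleCat.of A A) ⋙ HomologicalComplex.single (ModuleCat.{u} A) (ComplexShape.up ℤ) 0

/-- The projections `A ⟶ A/I^(n+1)`. -/
noncomputable def adicMk : (Functor.const ℕᵒᵖ).obj (ModuleCat.of A A) ⟶ CohIII.adicSystem I (ModuleCat.of A A) :=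
  NatTrans.ofOpSequence (fun n => ModuleCat.ofHom (Submodule.mkQ (I ^ (n + 1) • (⊤ : Submodule A (ModuleCat.of A A)))))
    fun n => by
      simp only [CohIII.adicSystem, Functor.ofOpSequence_map_homOfLE_succ]
      rfl

lemma smul_hom_eq_zero {C : Type*} [Category C] [Preadditive C] [Linear A C] {K L : C} (φ : K ⟶ L) {r : A}
    (h : r • 𝟙 L = 0) : r • φ = 0 := by
  rw [← Category.comp_id φ, ← Linear.comp_smul, h, comp_zero]

lemma smul_adic_eq_zero {f : A} (hf : f ∈ I) (n : ℕ) :
    f ^ (n + 1) • 𝟙 ((CohIII.adicSystem I (ModuleCat.of A A)).obj (op n)) = 0 := by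
  refine ModuleCat.hom_ext (LinearMap.ext fun x => ?_)
  show f ^ (n + 1) • x = 0
  obtain ⟨y, rfl⟩ := Submodule.mkQ_surjective (I ^ (n + 1) • (⊤ : Submodule A (ModuleCat.of A A))) x
  refine ((Submodule.mkQ _).map_smul (f ^ (n + 1)) y).symm.trans ?_
  exact (Submodule.Quotient.mk_eq_zero _).2
    (Submodule.smul_mem_smul (Ideal.pow_mem_pow hf _) Submodule.mem_top)

lemma smul_adicCx_eq_zero {f : A} (hf : f ∈ I) (n : ℕᵒᵖ) : f ^ (n.unop + 1) • 𝟙 ((adicCx I).obj n) = 0 := by
  refine HomologicalComplex.hom_ext _ _ fun p => ?_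
  by_cases hp : p = 0
  · subst hp
    let e := HomologicalComplex.singleObjXSelf (ComplexShape.up ℤ) 0 ((CohIII.adicSystem I (ModuleCat.of A A)).obj n)
    show f ^ (n.unop + 1) • 𝟙 (((adicCx I).obj n).X 0) = 0
    rw [← cancel_mono e.hom, Linear.smul_comp, Category.id_comp, zero_comp]
    exact smul_hom_eq_zero e.hom (smul_adic_eq_zero I hf n.unop)
  · exact (HomologicalComplex.isZero_single_obj_X _ _ _ _ hp).eq_of_src _ _

/-- The projection. -/
noncomputable def proj : ∀ fs : List A, (∀ f ∈ fs, f ∈ I) → (kosSys fs (one A) ⟶ adicCx I)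
  | [], _ =>
    { app := fun n => (HomologicalComplex.single (ModuleCat.{u} A) (ComplexShape.up ℤ) 0).map ((adicMk I).app n)
      naturality := fun m n g => by
        show 𝟙 (one A) ≫ _ = _
        rw [Category.id_comp]
        refine (congrArg _ ((Category.id_comp _).symm.trans ((adicMk I).naturality g))).trans ?_
        exact Functor.map_comp _ _ _ }
  | f :: r, h =>
    { app := fun n => mappingCone.desc _ 0 ((proj r fun g hg => h g (List.mem_cons_of_mem _ hg)).app n) (by
        rw [HomComplex.δ_zero]
        have hz : (f ^ (n.unop + 1) • 𝟙 ((kosSys r (one A)).obj n)) ≫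
            (proj r fun g hg => h g (List.mem_cons_of_mem _ hg)).app n = 0 := by
          rw [Linear.smul_comp, Category.id_comp]
          exact smul_hom_eq_zero _ (smul_adicCx_eq_zero I (h f List.mem_cons_self) n)
        rw [hz, HomComplex.Cochain.ofHom_zero])
      naturality := fun m n g => by
        refine HomologicalComplex.hom_ext _ _ fun p => ?_
        have hn := HomologicalComplex.congr_hom ((proj r fun g hg => h g (List.mem_cons_of_mem _ hg)).naturality g) p
        simp only [HomologicalComplex.comp_f] at hn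
        refine (mappingCone.ext_from_iff _ (p + 1) p rfl _ _).2 ⟨?_, ?_⟩
        · simp [kosSys, mappingCone.map]
        · simp [kosSys, mappingCone.map]
          exact hn }

lemma kosInc_proj : ∀ (fs : List A) (h : ∀ f ∈ fs, f ∈ I) (n : ℕᵒᵖ),
    (kosInc fs (one A)).app n ≫ (proj I fs h).app n =
      (HomologicalComplex.single (ModuleCat.{u} A) (ComplexShape.up ℤ) 0).map ((adicMk I).app n)
  | [], _, _ => Category.id_comp _
  | f :: r, h, n => by
    refine (Category.assoc _ _ _).trans (Eq.trans (congrArg (_ ≫ ·) ?_)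
      (kosInc_proj r (fun g hg => h g (List.mem_cons_of_mem _ hg)) n))
    simp only [proj, powConeInr]
    exact mappingCone.inr_desc _ _ _ _

/-- The Koszul complexes are K-flat. -/
lemma kFlat_kos : ∀ (fs : List A) (n : ℕᵒᵖ), KFlat (curriedTensor (ModuleCat.{u} A)) ((kosSys fs (one A)).obj n)
  | [], _ => kFlat_single _ _ (flatObj_moduleCat (ModuleCat.of A A))
  | f :: r, n => kFlat_cone _ (kFlat_kos r n) (kFlat_kos r n)

/-- The Koszul complexes are concentrated in `[-length, 0]`. -/
lemma isZero_kos_X : ∀ (fs : List A) (n : ℕᵒᵖ) (p : ℤ), (p < -(fs.length : ℤ) ∨ 0 < p) →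
    IsZero (((kosSys fs (one A)).obj n).X p)
  | [], _, p, hp => HomologicalComplex.isZero_single_obj_X _ _ _ _ (by simp at hp; omega)
  | f :: r, n, p, hp => by
    simp only [List.length_cons, Nat.cast_succ] at hp
    have h1 := isZero_kos_X r n (p + 1) (by omega)
    have h2 := isZero_kos_X r n p (by omega)
    rw [IsZero.iff_id_eq_zero]
    exact (mappingCone.ext_from_iff _ (p + 1) p rfl _ _).2 ⟨h1.eq_of_src _ _, h2.eq_of_src _ _⟩

end Groth.Agent.ProKos
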