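import Groth.Agent.ProKos.Tens
import Groth.Agent.ProKos.Pi
import Groth.Agent.KFlatLib.SingleIso
import Mathlib.Algebra.Homology.SingleHomology

/-! Tensoring the projection with a finite module in one degree. -/

set_option autoImplicit false
set_option linter.style.haveILetI false
set_option backward.isDefEq.respectTransparency false

universe u

open CategoryTheory CategoryTheory.Limits CategoryTheory.Pretriangulated CochainComplex Opposite MonoidalCategory
open TensorProduct

attribute [local instance] HasDerivedCategory.standard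

namespace Groth.Agent.ProKos

open Groth.Agent.RGammaD Groth.Agent.KFlatLib

variable {A : Type u} [CommRing A]

/-- `- ⊗ M`. -/
noncomputable abbrev tM (M : ModuleCat.{u} A) : ModuleCat.{u} A ⥤ ModuleCat.{u} A :=
  (curriedTensor (ModuleCat.{u} A)).flip.obj M

lemma tM_smul (M : ModuleCat.{u} A) (r : A) {X Y : ModuleCat.{u} A} (g : X ⟶ Y) :
    (tM M).map (r • g) = r • (tM M).map g :=
  MonoidalLinear.smul_whiskerRight r g M

lemma mem_of_map_mkQ_eq_zero (M : ModuleCat.{u} A) (J : Ideal A) (z : A ⊗[A] M)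
    (h : (J • (⊤ : Submodule A A)).mkQ.rTensor M z = 0) : z ∈ J • (⊤ : Submodule A (A ⊗[A] M)) := by
  obtain ⟨w, rfl⟩ := (rTensor_exact M (LinearMap.exact_subtype_mkQ (J • (⊤ : Submodule A A)))
    (Submodule.mkQ_surjective _) z).1 h
  clear h
  induction w using TensorProduct.induction_on with
  | zero => simp
  | tmul a m =>
    have ha : (a : A) ∈ J := by simpa using a.2
    have : ((J • (⊤ : Submodule A A)).subtype.rTensor M) (a ⊗ₜ[A] m) = (a : A) • ((1 : A) ⊗ₜ[A] (m : M)) := by
      rw [TensorProduct.smul_tmul']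
      simp
    rw [this]
    exact Submodule.smul_mem_smul ha Submodule.mem_top
  | add x y hx hy => rw [map_add]; exact add_mem hx hy

/-- Homology of termwise `G` on modules in degree zero. -/
noncomputable def θ (G : ModuleCat.{u} A ⥤ ModuleCat.{u} A) [G.Additive] :
    HomologicalComplex.single (ModuleCat.{u} A) (ComplexShape.up ℤ) 0 ⋙ GC G ⋙ H 0 ≅ G :=
  (Functor.associator _ _ _).symm ≪≫
    Functor.isoWhiskerRight (HomologicalComplex.singleMapHomologicalComplex G (ComplexShape.up ℤ) 0) _ ≪≫
    Functor.associator _ _ _ ≪≫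
    Functor.isoWhiskerLeft G (HomologicalComplex.homologyFunctorSingleIso (ModuleCat.{u} A) (ComplexShape.up ℤ) 0) ≪≫
    G.rightUnitor

lemma isZero_homology_GC_single (G : ModuleCat.{u} A ⥤ ModuleCat.{u} A) [G.Additive] (N : ModuleCat.{u} A)
    (q : ℤ) (hq : q ≠ 0) :
    IsZero (((GC G).obj ((HomologicalComplex.single (ModuleCat.{u} A) (ComplexShape.up ℤ) 0).obj N)).homology q) :=
  (HomologicalComplex.exactAt_single_obj (ComplexShape.up ℤ) 0 (G.obj N) q hq).isZero_homology.of_iso
    ((H q).mapIso ((HomologicalComplex.singleMapHomologicalComplex G (ComplexShape.up ℤ) 0).app N))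

/-- Criterion at degree zero, shifted. -/
lemma pz_coneSys_shift {X Y : Sys A} (a : X ⟶ Y) (j : ℤ)
    (hX : ∀ n q, 0 < q → IsZero ((X.obj (op n)).homology q)) (hXq : ∀ q, q < 0 → PZq X q)
    (hY : ∀ n q, q ≠ 0 → IsZero ((Y.obj (op n)).homology q))
    (hsurj : ∀ n, Function.Surjective ((H 0).map (a.app (op n))).hom)
    (hker : ∀ n : ℕ, ∃ (m : ℕ) (h : n ≤ m), ∀ x, ((H 0).map (a.app (op m))).hom x = 0 →
      ((H 0).map (tr X h)).hom x = 0) :
    PZ (coneSys (Functor.whiskerRight a (CategoryTheory.shiftFunctor (DRing.Cx A) (-j)))) := by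
  let e := fun (q : ℤ) => CochainComplex.ShiftSequence.shiftIso (ModuleCat.{u} A) (-j) q (-j + q) rfl
  let e0 := CochainComplex.ShiftSequence.shiftIso (ModuleCat.{u} A) (-j) j 0 (by omega)
  refine pz_coneSys _ j (fun n q hq => (hX n _ (by omega)).of_iso ((e q).app (X.obj (op n))))
    (fun q hq => (pzq_shift_iff X (-j) q _ rfl).2 (hXq _ (by omega)))
    (fun n q hq => (hY n _ (by omega)).of_iso ((e q).app (Y.obj (op n)))) (fun n y => ?_) (fun n => ?_)
  · obtain ⟨x, hx⟩ := hsurj n ((e0.hom.app (Y.obj (op n))).hom y)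
    obtain ⟨x', rfl⟩ := (e0.app (X.obj (op n))).toLinearEquiv.surjective x
    refine ⟨x', (e0.app (Y.obj (op n))).toLinearEquiv.injective (Eq.trans ?_ hx)⟩
    exact ConcreteCategory.congr_hom (e0.hom.naturality (a.app (op n))) x'
  · obtain ⟨m, h, hm⟩ := hker n
    refine ⟨m, h, fun x hx => (e0.app (X.obj (op n))).toLinearEquiv.injective (Eq.trans ?_ (map_zero _).symm)⟩
    refine (ConcreteCategory.congr_hom (e0.hom.naturality (tr X h)) x).trans (hm _ ?_)
    refine (ConcreteCategory.congr_hom (e0.hom.naturality (a.app (op m))) x).symm.trans ?_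
    exact (congrArg (e0.hom.app (Y.obj (op m))).hom hx).trans (map_zero _)

variable [IsNoetherianRing A]

/-- The base case. -/
theorem pz_base_GC {I : Ideal A} (fs : List A) (hfs : Ideal.span {x : A | x ∈ fs} = I) (hmem : ∀ f ∈ fs, f ∈ I)
    (M : ModuleCat.{u} A) [Module.Finite A M] (j : ℤ) :
    PZ (coneSys (Functor.whiskerRight (Functor.whiskerRight (proj I fs hmem) (GC (tM M)))
      (CategoryTheory.shiftFunctor (DRing.Cx A) (-j)))) := by
  let G := tM M
  let P := kosSys fs (one A)
  let X0 := (GC G).obj (one A)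
  obtain ⟨e, he⟩ := exists_kosMapIso G (tM_smul M) fs (one A)
  haveI : Module.Finite A (X0.homology 0) := by
    haveI : Module.Finite A (G.obj (ModuleCat.of A A)) := inferInstanceAs (Module.Finite A (A ⊗[A] M))
    exact Module.Finite.equiv ((θ G).app (ModuleCat.of A A)).toLinearEquiv.symm
  have hg := good X0 (fun q hq => isZero_homology_GC_single G _ q hq) fs
  have hinc : ∀ n (z : X0.homology 0), ((H 0).map (e.hom.app (op n))).hom
      (((H 0).map ((GC G).map ((kosInc fs (one A)).app (op n)))).hom z) =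
        ((H 0).map ((kosInc fs X0).app (op n))).hom z := fun n z =>
    (ConcreteCategory.congr_hom ((H 0).map_comp _ _) z).symm.trans
      (congrArg (fun t => ((H 0).map t).hom z) (he (op n)))
  have hinj : ∀ n, Function.Injective ((H 0).map (e.hom.app (op n))).hom := fun n =>
    ((H 0).mapIso (e.app (op n))).toLinearEquiv.injective
  have hmk : ∀ n (z : X0.homology 0),
      ((θ G).hom.app _).hom (((H 0).map ((GC G).map ((proj I fs hmem).app (op n)))).hom
        (((H 0).map ((GC G).map ((kosInc fs (one A)).app (op n)))).hom z)) =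
      (G.map ((adicMk I).app (op n))).hom (((θ G).hom.app (ModuleCat.of A A)).hom z) := fun n z => by
    refine Eq.trans (congrArg ((θ G).hom.app _).hom ?_)
      (ConcreteCategory.congr_hom ((θ G).hom.naturality ((adicMk I).app (op n))) z)
    refine (ConcreteCategory.congr_hom ((H 0).map_comp _ _) z).symm.trans (congrArg (fun t => ((H 0).map t).hom z) ?_)
    exact ((GC G).map_comp _ _).symm.trans (congrArg (GC G).map (kosInc_proj I fs hmem (op n)))
  refine pz_coneSys_shift _ j (fun n q hq => (hg.zero n q hq).of_iso ((H q).mapIso (e.app (op n))))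
    (fun q hq => (hg.pz q hq).of_iso e.symm) (fun n q hq => isZero_homology_GC_single G _ q hq) (fun n y => ?_) (fun n => ?_)
  · obtain ⟨w, hw⟩ := LinearMap.rTensor_surjective M
      (Submodule.mkQ_surjective (I ^ (n + 1) • (⊤ : Submodule A A))) (((θ G).hom.app _).hom y)
    obtain ⟨z, rfl⟩ := ((θ G).app (ModuleCat.of A A)).toLinearEquiv.surjective w
    exact ⟨((H 0).map ((GC G).map ((kosInc fs (one A)).app (op n)))).hom z,
      ((θ G).app _).toLinearEquiv.injective ((hmk n z).trans hw)⟩
  · obtain ⟨N, hN⟩ := Ideal.exists_pow_le_of_le_radical_of_fg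
      (show I ≤ (pw fs n).radical from hfs.symm.le.trans
        (Ideal.span_le.2 fun f hf => ⟨n + 1, pow_mem_pw hf n⟩)) (IsNoetherian.noetherian I)
    refine ⟨n + N, Nat.le_add_right _ _, fun x hx => ?_⟩
    obtain ⟨z, hz⟩ := hg.surj (n + N) (((H 0).map (e.hom.app (op (n + N)))).hom x)
    obtain rfl : ((H 0).map ((GC G).map ((kosInc fs (one A)).app (op (n + N))))).hom z = x :=
      hinj _ ((hinc _ z).trans hz)
    have h1 := mem_of_map_mkQ_eq_zero M (I ^ (n + N + 1)) _
      ((hmk (n + N) z).symm.trans ((congrArg _ hx).trans (map_zero _)))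
    have h2 : z ∈ pw fs n • (⊤ : Submodule A (X0.homology 0)) := by
      refine Submodule.smul_mono_left ((Ideal.pow_le_pow_right (show N ≤ n + N + 1 by omega)).trans hN) ?_
      let l := ((θ G).app (ModuleCat.of A A)).toLinearEquiv
      have h3 := Submodule.mem_map_of_mem (f := l.symm.toLinearMap) h1
      rw [Submodule.map_smul'', Submodule.map_top, LinearEquiv.range] at h3
      erw [l.symm_apply_apply] at h3
      exact h3
    refine (map_natural (Functor.whiskerRight (kosInc fs (one A)) (GC G)) 0 (Nat.le_add_right n N) z).symm.trans ?_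
    refine hinj n (Eq.trans ((hinc n _).trans ?_) (map_zero _).symm)
    refine (hg.ker n _).2 ?_
    have h4 : tr ((Functor.const ℕᵒᵖ).obj (one A) ⋙ GC G) (Nat.le_add_right n N) = 𝟙 X0 := (GC G).map_id _
    rw [h4]
    exact Set.mem_of_eq_of_mem (congrArg (fun t => t.hom z) ((H 0).map_id X0)) h2

/-- `L ⊗ M[-j]` is `L ⊗ M`, shifted. -/
noncomputable def singleShiftTensorIso (M : ModuleCat.{u} A) (j : ℤ) :
    (curriedTensor (ModuleCat.{u} A)).map₂CochainComplex.flip.obj
        ((HomologicalComplex.single (ModuleCat.{u} A) (ComplexShape.up ℤ) j).obj M) ≅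
      GC (tM M) ⋙ CategoryTheory.shiftFunctor (DRing.Cx A) (-j) :=
  (curriedTensor (ModuleCat.{u} A)).map₂CochainComplex.flip.mapIso
      (((CochainComplex.singleFunctors (ModuleCat.{u} A)).shiftIso (-j) j 0 (by omega)).app M).symm ≪≫
    NatIso.ofComponents
      (F := (curriedTensor (ModuleCat.{u} A)).map₂CochainComplex.flip.obj
        ((CategoryTheory.shiftFunctor (DRing.Cx A) (-j)).obj ((HomologicalComplex.single (ModuleCat.{u} A) (ComplexShape.up ℤ) 0).obj M)))
      (G := (curriedTensor (ModuleCat.{u} A)).map₂CochainComplex.flip.obj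
        ((HomologicalComplex.single (ModuleCat.{u} A) (ComplexShape.up ℤ) 0).obj M) ⋙ CategoryTheory.shiftFunctor (DRing.Cx A) (-j))
      (fun L => (((curriedTensor (ModuleCat.{u} A)).map₂CochainComplex.obj L).commShiftIso (-j)).app _)
      (fun {L L'} f => (NatTrans.shift_app_comm ((curriedTensor (ModuleCat.{u} A)).map₂CochainComplex.map f) (-j)
        ((HomologicalComplex.single (ModuleCat.{u} A) (ComplexShape.up ℤ) 0).obj M)).symm) ≪≫
    Functor.isoWhiskerRight (singleIso (curriedTensor (ModuleCat.{u} A)) M) _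

/-- The base case, for the tensor product of complexes. -/
theorem pz_base {I : Ideal A} (fs : List A) (hfs : Ideal.span {x : A | x ∈ fs} = I) (hmem : ∀ f ∈ fs, f ∈ I)
    (M : ModuleCat.{u} A) [Module.Finite A M] (j : ℤ) :
    PZ (coneSys (Functor.whiskerRight (proj I fs hmem) ((curriedTensor (ModuleCat.{u} A)).map₂CochainComplex.flip.obj
      ((HomologicalComplex.single (ModuleCat.{u} A) (ComplexShape.up ℤ) j).obj M)))) := by
  let Φ := singleShiftTensorIso M j
  refine pz_coneSys_of_iso _ _ (Functor.associator _ _ _ ≪≫ Functor.isoWhiskerLeft _ Φ.symm)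
    (Functor.associator _ _ _ ≪≫ Functor.isoWhiskerLeft _ Φ.symm) ?_ (pz_base_GC fs hfs hmem M j)
  refine NatTrans.ext (funext fun n => ?_)
  show _ ≫ 𝟙 _ ≫ Φ.inv.app _ = (𝟙 _ ≫ Φ.inv.app _) ≫ _
  rw [Category.id_comp, Category.id_comp]
  exact Φ.inv.naturality _

end Groth.Agent.ProKos
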