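import Groth.Agent.RGammaD.ProZero
import Groth.Agent.KFlatLib.KFlat
import Mathlib.Algebra.Homology.HomotopyCategory.Triangulated

/-! Pro-zero homology in one degree, and of cones of maps of inverse systems. -/

set_option autoImplicit false
set_option linter.style.haveILetI false
set_option backward.isDefEq.respectTransparency false

universe u

open CategoryTheory CategoryTheory.Limits CategoryTheory.Pretriangulated CochainComplex Opposite

attribute [local instance] HasDerivedCategory.standard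

namespace Groth.Agent.ProKos

open Groth.Agent.RGammaD Groth.Agent.KFlatLib

variable {A : Type u} [CommRing A]

/-- Homology in one degree. -/
noncomputable abbrev H (q : ℤ) : DRing.Cx A ⥤ ModuleCat.{u} A :=
  HomologicalComplex.homologyFunctor (ModuleCat.{u} A) (ComplexShape.up ℤ) q

/-- Pro-zero homology in degree `q`. -/
def PZq (Y : Sys A) (q : ℤ) : Prop :=
  ∀ n : ℕ, ∃ (m : ℕ) (h : n ≤ m), ∀ x, ((H q).map (tr Y h)).hom x = 0

lemma pz_iff (Y : Sys A) : PZ Y ↔ ∀ q, PZq Y q := by
  refine ⟨fun h q n => ?_, fun h n q => ?_⟩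
  · obtain ⟨m, hm, he⟩ := h n q
    exact ⟨m, hm, fun x => congrArg (fun t => t.hom x) he⟩
  · obtain ⟨m, hm, he⟩ := h q n
    exact ⟨m, hm, ModuleCat.hom_ext (LinearMap.ext he)⟩

lemma tr_natural {X Y : Sys A} (a : X ⟶ Y) {n m : ℕ} (h : n ≤ m) :
    tr X h ≫ a.app (op n) = a.app (op m) ≫ tr Y h :=
  a.naturality _

lemma map_tr_comp (Y : Sys A) (q : ℤ) {n m l : ℕ} (h : n ≤ m) (h' : m ≤ l) (x) :
    ((H q).map (tr Y h)).hom (((H q).map (tr Y h')).hom x) = ((H q).map (tr Y (h.trans h'))).hom x := by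
  rw [← tr_comp Y h h', Functor.map_comp]
  rfl

lemma map_natural {X Y : Sys A} (a : X ⟶ Y) (q : ℤ) {n m : ℕ} (h : n ≤ m) (x) :
    ((H q).map (a.app (op n))).hom (((H q).map (tr X h)).hom x) =
      ((H q).map (tr Y h)).hom (((H q).map (a.app (op m))).hom x) := by
  show ((H q).map (tr X h) ≫ (H q).map (a.app (op n))).hom x = ((H q).map (a.app (op m)) ≫ (H q).map (tr Y h)).hom x
  rw [← Functor.map_comp, ← Functor.map_comp, tr_natural]

lemma PZq.of_iso {Y Y' : Sys A} {q : ℤ} (h : PZq Y q) (e : Y ≅ Y') : PZq Y' q := fun n => by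
  obtain ⟨m, hm, hx⟩ := h n
  refine ⟨m, hm, fun x => ?_⟩
  have hx' : ((H q).map (e.hom.app (op m))).hom (((H q).map (e.inv.app (op m))).hom x) = x := by
    show ((H q).map (e.inv.app (op m)) ≫ (H q).map (e.hom.app (op m))).hom x = x
    rw [← Functor.map_comp, Iso.inv_hom_id_app, CategoryTheory.Functor.map_id]
    rfl
  rw [← hx', ← map_natural e.hom q hm, hx, map_zero]

/-- Homology of shifted systems. -/
lemma pzq_shift_iff (Y : Sys A) (b q r : ℤ) (h : b + q = r) :
    PZq (Y ⋙ CategoryTheory.shiftFunctor (DRing.Cx A) b) q ↔ PZq Y r := by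
  let e := CochainComplex.ShiftSequence.shiftIso (ModuleCat.{u} A) b q r h
  have key : ∀ {n m : ℕ} (hnm : n ≤ m) (x),
      (e.hom.app (Y.obj (op n))).hom (((H q).map (tr (Y ⋙ CategoryTheory.shiftFunctor (DRing.Cx A) b) hnm)).hom x) =
        ((H r).map (tr Y hnm)).hom ((e.hom.app (Y.obj (op m))).hom x) :=
    fun hnm x => ConcreteCategory.congr_hom (e.hom.naturality (tr Y hnm)) x
  have hinj : ∀ n, Function.Injective (e.hom.app (Y.obj (op n))).hom := fun n =>
    (e.app (Y.obj (op n))).toLinearEquiv.injective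
  refine ⟨fun hY n => ?_, fun hY n => ?_⟩
  · obtain ⟨m, hm, hx⟩ := hY n
    refine ⟨m, hm, fun x => ?_⟩
    obtain ⟨x', rfl⟩ := (e.app (Y.obj (op m))).toLinearEquiv.surjective x
    exact (key hm x').symm.trans ((congrArg _ (hx x')).trans (map_zero _))
  · obtain ⟨m, hm, hx⟩ := hY n
    exact ⟨m, hm, fun x => hinj n ((key hm x).trans ((hx _).trans (map_zero _).symm))⟩

lemma pz_shift {Y : Sys A} (hY : PZ Y) (b : ℤ) : PZ (Y ⋙ CategoryTheory.shiftFunctor (DRing.Cx A) b) :=
  (pz_iff _).2 fun q => (pzq_shift_iff Y b q _ rfl).2 ((pz_iff Y).1 hY _)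

/-- Pro-zero homology in degree `q` is closed under extensions. -/
lemma PZq.ext {X Y Z : Sys A} {q : ℤ} (a : X ⟶ Y) (b : Y ⟶ Z) (w : ∀ n, a.app (op n) ≫ b.app (op n) = 0)
    (hS : ∀ n, (ShortComplex.mk _ _ (w n)).ShortExact) (hX : PZq X q) (hZ : PZq Z q) : PZq Y q := by
  intro n
  obtain ⟨m, h, hm⟩ := hX n
  obtain ⟨l, h', hl⟩ := hZ m
  refine ⟨l, h.trans h', fun x => ?_⟩
  have hex := (hS m).homology_exact₂ q
  rw [ShortComplex.moduleCat_exact_iff] at hex
  obtain ⟨z, hz⟩ := hex (((H q).map (tr Y h')).hom x) ((map_natural b q h' x).trans (hl _))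
  rw [← map_tr_comp Y q h h', ← hz]
  exact (map_natural a q h z).symm.trans ((congrArg _ (hm z)).trans (map_zero _))

lemma map_comm₃ {K L K' L' : DRing.Cx A} (φ : K ⟶ L) (φ' : K' ⟶ L') (a : K ⟶ K') (b : L ⟶ L')
    (w : φ ≫ b = a ≫ φ') :
    mappingCone.map φ φ' a b w ≫ (mappingCone.triangle φ').mor₃ = (mappingCone.triangle φ).mor₃ ≫ a⟦(1 : ℤ)⟧' := by
  ext p : 1
  refine (mappingCone.ext_from_iff φ (p + 1) p rfl _ _).2 ⟨?_, ?_⟩
  · simp [mappingCone.map, mappingCone.triangle, HomComplex.Cochain.rightShift_v _ 1 0 _ p p _ (p + 1) rfl]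
  · simp [mappingCone.map, mappingCone.triangle, HomComplex.Cochain.rightShift_v _ 1 0 _ p p _ (p + 1) rfl]

/-- The system of cones of a map of systems. -/
@[simps]
noncomputable def coneSys {X Y : Sys A} (a : X ⟶ Y) : Sys A where
  obj n := mappingCone (a.app n)
  map g := mappingCone.map _ _ (X.map g) (Y.map g) (a.naturality g).symm
  map_id n := by simp [mappingCone.map_id]
  map_comp g g' := by
    simp only [Functor.map_comp]
    exact mappingCone.map_comp _ _ _ _ _ _ _ _ _

/-- Cones of isomorphic maps of systems. -/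
lemma pz_coneSys_of_iso {X Y X' Y' : Sys A} (a : X ⟶ Y) (a' : X' ⟶ Y') (eX : X ≅ X') (eY : Y ≅ Y')
    (w : a ≫ eY.hom = eX.hom ≫ a') (h : PZ (coneSys a)) : PZ (coneSys a') := by
  have hw : ∀ n, a.app n ≫ eY.hom.app n = eX.hom.app n ≫ a'.app n := fun n => NatTrans.congr_app w n
  have hw' : ∀ n, a'.app n ≫ eY.inv.app n = eX.inv.app n ≫ a.app n := fun n => by
    rw [← cancel_epi (eX.hom.app n), ← Category.assoc, ← hw, Category.assoc, Iso.hom_inv_id_app,
      Category.comp_id, Iso.hom_inv_id_app_assoc]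
  refine h.of_iso (NatIso.ofComponents (fun n =>
    { hom := mappingCone.map _ _ (eX.hom.app n) (eY.hom.app n) (hw n)
      inv := mappingCone.map _ _ (eX.inv.app n) (eY.inv.app n) (hw' n)
      hom_inv_id := (mappingCone.map_comp _ _ _ _ _ _ _ _ _).symm.trans (by simp [mappingCone.map_id]; rfl)
      inv_hom_id := (mappingCone.map_comp _ _ _ _ _ _ _ _ _).symm.trans (by simp [mappingCone.map_id]; rfl) })
    fun g => ?_)
  simp only [coneSys_map]
  erw [← mappingCone.map_comp, ← mappingCone.map_comp]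
  congr 1
  · exact eX.hom.naturality g
  · exact eY.hom.naturality g

lemma homologyMap_inr_comp {K L : DRing.Cx A} (φ : K ⟶ L) (q : ℤ) (x : K.homology q) :
    ((H q).map (mappingCone.inr φ)).hom (((H q).map φ).hom x) = 0 := by
  show ((H q).map φ ≫ (H q).map (mappingCone.inr φ)).hom x = 0
  have h : Homotopy (φ ≫ mappingCone.inr φ) 0 := HomologicalComplex.homotopyCofiber.inrCompHomotopy φ (fun n => ⟨n - 1, by simp⟩)
  rw [← Functor.map_comp]
  exact (congrArg (fun t => t.hom x) ((h.homologyMap_eq q).trans (HomologicalComplex.homologyMap_zero _ _ q))).trans rfl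

lemma homologyMap_mor₃_comp {K L : DRing.Cx A} (φ : K ⟶ L) (q : ℤ) (x : (mappingCone φ).homology q) :
    ((H q).map ((mappingCone.triangle φ).mor₃ ≫ φ⟦(1 : ℤ)⟧')).hom x = 0 := by
  have hT := DerivedCategory.mappingCone_triangle_distinguished φ
  have h0 : DerivedCategory.Q.map ((mappingCone.triangle φ).mor₃ ≫ φ⟦(1 : ℤ)⟧') = 0 := by
    have h := comp_distTriang_mor_zero₃₁ _ hT
    have hn := (DerivedCategory.Q.commShiftIso (1 : ℤ)).hom.naturality φ
    rw [← cancel_mono ((DerivedCategory.Q.commShiftIso (1 : ℤ)).hom.app L), zero_comp, ← h]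
    exact ((congrArg (· ≫ _) (DerivedCategory.Q.map_comp _ _)).trans (Category.assoc _ _ _)).trans
      ((congrArg (_ ≫ ·) hn).trans (Category.assoc _ _ _).symm)
  have hf := (DerivedCategory.homologyFunctorFactors (ModuleCat.{u} A) q).hom.naturality
    ((mappingCone.triangle φ).mor₃ ≫ φ⟦(1 : ℤ)⟧')
  have hz : (H q).map ((mappingCone.triangle φ).mor₃ ≫ φ⟦(1 : ℤ)⟧') = 0 := by
    rw [← cancel_epi ((DerivedCategory.homologyFunctorFactors (ModuleCat.{u} A) q).hom.app (mappingCone φ)), comp_zero]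
    refine hf.symm.trans ?_
    show (DerivedCategory.homologyFunctor (ModuleCat.{u} A) q).map (DerivedCategory.Q.map _) ≫ _ = 0
    rw [h0, Functor.map_zero, zero_comp]
  rw [hz]
  rfl

/-- A map of systems onto systems concentrated in degree `j` has cones with pro-zero homology. -/
theorem pz_coneSys {X Y : Sys A} (a : X ⟶ Y) (j : ℤ)
    (hX : ∀ n q, j < q → IsZero ((X.obj (op n)).homology q)) (hXq : ∀ q, q < j → PZq X q)
    (hY : ∀ n q, q ≠ j → IsZero ((Y.obj (op n)).homology q))
    (hsurj : ∀ n, Function.Surjective ((H j).map (a.app (op n))).hom)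
    (hker : ∀ n : ℕ, ∃ (m : ℕ) (h : n ≤ m), ∀ x, ((H j).map (a.app (op m))).hom x = 0 →
      ((H j).map (tr X h)).hom x = 0) :
    PZ (coneSys a) := by
  refine (pz_iff _).2 fun q n => ?_
  let sh := CategoryTheory.shiftFunctor (DRing.Cx A) (1 : ℤ)
  let iY : Y ⟶ coneSys a :=
    { app := fun m => mappingCone.inr (a.app m)
      naturality := fun _ _ g => by
        refine HomologicalComplex.hom_ext _ _ fun p => ?_
        simp [mappingCone.map] }
  let pX : coneSys a ⟶ X ⋙ sh :=
    { app := fun m => (mappingCone.triangle (a.app m)).mor₃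
      naturality := fun _ _ g => map_comm₃ _ _ _ _ (a.naturality g).symm }
  have hS : ∀ m, (coneSeq (a.app (op m))).ShortExact := fun m =>
    HomologicalComplex.shortExact_of_degreewise_shortExact _ fun p => (coneSeqSplitting _ p).shortExact
  let e := CochainComplex.ShiftSequence.shiftIso (ModuleCat.{u} A) (1 : ℤ) q (1 + q) rfl
  have h1 : ∃ (m : ℕ) (h : n ≤ m), ∀ x : ((coneSys a).obj (op m)).homology q,
      ((H q).map (pX.app (op n))).hom (((H q).map (tr (coneSys a) h)).hom x) = 0 := by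
    rcases lt_trichotomy (1 + q) j with hlt | heq | hgt
    · obtain ⟨m, h, hm⟩ := (pzq_shift_iff X 1 q _ rfl).2 (hXq _ hlt) n
      exact ⟨m, h, fun x => (map_natural pX q h x).trans (hm _)⟩
    · obtain ⟨m, h, hm⟩ := hker n
      refine ⟨m, h, fun x => (map_natural pX q h x).trans ?_⟩
      subst heq
      refine (e.app (X.obj (op n))).toLinearEquiv.injective (Eq.trans ?_ (map_zero _).symm)
      refine (ConcreteCategory.congr_hom (e.hom.naturality (tr X h)) _).trans (hm _ ?_)
      refine (ConcreteCategory.congr_hom (e.hom.naturality (a.app (op m))) _).symm.trans ?_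
      refine Eq.trans ?_ (map_zero (e.hom.app (Y.obj (op m))).hom)
      refine congrArg (e.hom.app (Y.obj (op m))).hom ?_
      refine Eq.trans ?_ (homologyMap_mor₃_comp (a.app (op m)) q x)
      exact (ConcreteCategory.congr_hom ((H q).map_comp _ _) x).symm
    · refine ⟨n, le_rfl, fun x => (e.app (X.obj (op n))).toLinearEquiv.injective ?_⟩
      haveI := ModuleCat.subsingleton_of_isZero (hX n _ hgt)
      exact Subsingleton.elim (α := (X.obj (op n)).homology (1 + q)) _ _
  have h2 : ∀ y : ((Y.obj (op n))).homology q, ((H q).map (iY.app (op n))).hom y = 0 := by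
    intro y
    by_cases hq : q = j
    · subst hq
      obtain ⟨x, rfl⟩ := hsurj n y
      exact homologyMap_inr_comp _ _ x
    · haveI := ModuleCat.subsingleton_of_isZero (hY n q hq)
      rw [Subsingleton.elim (α := (Y.obj (op n)).homology q) y 0, map_zero]
  obtain ⟨m, h, hm⟩ := h1
  refine ⟨m, h, fun x => ?_⟩
  obtain ⟨y, hy⟩ := (ShortComplex.moduleCat_exact_iff _).1 ((hS n).homology_exact₂ q) _ (hm x)
  rw [← hy]
  exact h2 y

end Groth.Agent.ProKos
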