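import Groth.Agent.ProKos.Base
import Groth.Agent.KFlatLib.BrutalTrunc
import Mathlib.Algebra.Homology.Embedding.CochainComplex

/-! Dévissage on bounded complexes of finite modules. -/

set_option autoImplicit false
set_option linter.style.haveILetI false
set_option backward.isDefEq.respectTransparency false

universe u

open CategoryTheory CategoryTheory.Limits CategoryTheory.Pretriangulated CochainComplex Opposite MonoidalCategory

attribute [local instance] HasDerivedCategory.standard

namespace Groth.Agent.ProKos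

open Groth.Agent.RGammaD Groth.Agent.KFlatLib

variable {A : Type u} [CommRing A]

/-- The map of cone systems induced by a map of the complexes tensored with. -/
noncomputable def coneTens {X Y : Sys A} (a : X ⟶ Y) {K K' : DRing.Cx A} (g : K ⟶ K') :
    coneSys (Functor.whiskerRight a ((curriedTensor (ModuleCat.{u} A)).map₂CochainComplex.flip.obj K)) ⟶
      coneSys (Functor.whiskerRight a ((curriedTensor (ModuleCat.{u} A)).map₂CochainComplex.flip.obj K')) where
  app n := mappingCone.map _ _
    (((curriedTensor (ModuleCat.{u} A)).map₂CochainComplex.flip.map g).app (X.obj n))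
    (((curriedTensor (ModuleCat.{u} A)).map₂CochainComplex.flip.map g).app (Y.obj n))
    (((curriedTensor (ModuleCat.{u} A)).map₂CochainComplex.flip.map g).naturality (a.app n))
  naturality m n h := by
    simp only [coneSys_map]
    erw [← mappingCone.map_comp, ← mappingCone.map_comp]
    congr 1
    · exact ((curriedTensor (ModuleCat.{u} A)).map₂CochainComplex.flip.map g).naturality _
    · exact ((curriedTensor (ModuleCat.{u} A)).map₂CochainComplex.flip.map g).naturality _

lemma nonempty_sigmaSplitting (F : DRing.Cx A) (m n : ℤ) :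
    Nonempty ((sigmaSES F m).map (HomologicalComplex.eval (ModuleCat.{u} A) (ComplexShape.up ℤ) n)).Splitting := by
  have h := (sigmaSES_shortExact F m).map_of_exact (HomologicalComplex.eval (ModuleCat.{u} A) (ComplexShape.up ℤ) n)
  rcases lt_or_ge n m with hn | hn
  · haveI := h.epi_g
    haveI : Mono ((sigmaSES F m).map (HomologicalComplex.eval (ModuleCat.{u} A) (ComplexShape.up ℤ) n)).g :=
      h.exact.mono_g ((isZero_stupidTrunc_of_lt F m n hn).eq_of_src _ _)
    exact ⟨ShortComplex.Splitting.ofIsZeroOfIsIso _ (isZero_stupidTrunc_of_lt F m n hn) (isIso_of_mono_of_epi _)⟩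
  · haveI := isStrictlyLE_sigmaSES_X₃ F m
    exact ⟨ShortComplex.Splitting.ofIsIsoOfIsZero _ (isIso_sigmaGEι_f F m n hn)
      ((sigmaSES F m).X₃.isZero_of_isStrictlyLE (m - 1) n (by omega))⟩

lemma finite_of_isZero {M : ModuleCat.{u} A} (h : IsZero M) : Module.Finite A M := by
  haveI := ModuleCat.subsingleton_of_isZero h
  infer_instance

variable [IsNoetherianRing A]

/-- The dévissage. -/
theorem pz_dev {I : Ideal A} (fs : List A) (hfs : Ideal.span {x : A | x ∈ fs} = I) (hmem : ∀ f ∈ fs, f ∈ I) :
    ∀ (k : ℕ) (a : ℤ) (K : DRing.Cx A), (∀ p, p < a ∨ a + k < p → IsZero (K.X p)) →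
      (∀ p, Module.Finite A (K.X p)) →
      PZ (coneSys (Functor.whiskerRight (proj I fs hmem)
        ((curriedTensor (ModuleCat.{u} A)).map₂CochainComplex.flip.obj K)))
  | 0, a, K, hz, hf => by
    haveI : K.IsStrictlyGE a := (CochainComplex.isStrictlyGE_iff K a).2 fun i hi => hz i (Or.inl hi)
    haveI : K.IsStrictlyLE a := (CochainComplex.isStrictlyLE_iff K a).2 fun i hi => hz i (Or.inr (by simpa using hi))
    obtain ⟨M, ⟨e⟩⟩ := K.exists_iso_single a
    haveI : Module.Finite A M := by
      haveI : Module.Finite A ((HomologicalComplex.eval (ModuleCat.{u} A) (ComplexShape.up ℤ) a).obj K) := hf a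
      exact Module.Finite.equiv ((HomologicalComplex.eval (ModuleCat.{u} A) (ComplexShape.up ℤ) a).mapIso e ≪≫
        HomologicalComplex.singleObjXSelf (ComplexShape.up ℤ) a M).toLinearEquiv
    let Φ := (curriedTensor (ModuleCat.{u} A)).map₂CochainComplex.flip.mapIso e.symm
    exact pz_coneSys_of_iso (Functor.whiskerRight (proj I fs hmem)
        ((curriedTensor (ModuleCat.{u} A)).map₂CochainComplex.flip.obj
          ((HomologicalComplex.single (ModuleCat.{u} A) (ComplexShape.up ℤ) a).obj M))) _
      (Functor.isoWhiskerLeft (kosSys fs (one A)) Φ) (Functor.isoWhiskerLeft (adicCx I) Φ)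
      (NatTrans.ext (funext fun n => Φ.hom.naturality _)) (pz_base fs hfs hmem M a)
  | k + 1, a, K, hz, hf => by
    let S := sigmaSES K (a + 1)
    have hzero₁ : ∀ p, p < a + 1 ∨ a + 1 + k < p → IsZero (S.X₁.X p) := by
      rintro p (hp | hp)
      · exact isZero_stupidTrunc_of_lt K (a + 1) p hp
      · haveI := mono_sigmaGEι_f K (a + 1) p
        exact IsZero.of_mono ((sigmaGEι K (a + 1)).f p) (hz p (Or.inr (by push_cast; omega)))
    have hfin₁ : ∀ p, Module.Finite A (S.X₁.X p) := fun p => by
      rcases lt_or_ge p (a + 1) with hp | hp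
      · exact finite_of_isZero (isZero_stupidTrunc_of_lt K (a + 1) p hp)
      · haveI := isIso_sigmaGEι_f K (a + 1) p hp
        haveI := hf p
        exact Module.Finite.equiv (asIso ((sigmaGEι K (a + 1)).f p)).toLinearEquiv.symm
    haveI := isStrictlyLE_sigmaSES_X₃ K (a + 1)
    have hle : ∀ p, a + 1 ≤ p → IsZero (S.X₃.X p) := fun p hp =>
      S.X₃.isZero_of_isStrictlyLE (a + 1 - 1) p (by omega)
    have hzero₃ : ∀ p, p < a ∨ a + (k : ℕ) < p → IsZero (S.X₃.X p) := by
      rintro p (hp | hp)
      · obtain ⟨e⟩ := nonempty_sigmaSES_X₃_iso K (a + 1) p (by omega)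
        exact (hz p (Or.inl hp)).of_iso e.symm
      · exact hle p (by omega)
    have hfin₃ : ∀ p, Module.Finite A (S.X₃.X p) := fun p => by
      rcases lt_or_ge p (a + 1) with hp | hp
      · obtain ⟨e⟩ := nonempty_sigmaSES_X₃_iso K (a + 1) p hp
        haveI := hf p
        exact Module.Finite.equiv e.toLinearEquiv
      · exact finite_of_isZero (hle p hp)
    have h₁ := pz_dev fs hfs hmem k (a + 1) S.X₁ hzero₁ hfin₁
    have h₃ := pz_dev fs hfs hmem k a S.X₃ hzero₃ hfin₃
    have hS : ∀ L : DRing.Cx A, (S.map ((curriedTensor (ModuleCat.{u} A)).map₂CochainComplex.obj L)).ShortExact :=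
      fun L => shortExact₂_of_splitting L S (fun p => nonempty_sigmaSplitting K (a + 1) p)
    have hSE := fun n : ℕ => H1CechLC.cone_shortExact _ _ _ _
      (((curriedTensor (ModuleCat.{u} A)).map₂CochainComplex.flip.map S.f).naturality ((proj I fs hmem).app (op n)))
      (((curriedTensor (ModuleCat.{u} A)).map₂CochainComplex.flip.map S.g).naturality ((proj I fs hmem).app (op n)))
      _ _ (hS ((kosSys fs (one A)).obj (op n))) (hS ((adicCx I).obj (op n)))
    exact PZ.ext (coneTens (proj I fs hmem) S.f) (coneTens (proj I fs hmem) S.g) _ hSE h₁ h₃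

end Groth.Agent.ProKos
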