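import Groth.Agent.ProKos.Dev
import Groth.Agent.S6587
import Groth.Agent.S6588
import Groth.Agent.TowerLib.ProIso
import Groth.Prelude.Def_DTen

/-! The derived tensor product with the adic system. -/

set_option autoImplicit false
set_option linter.style.haveILetI false
set_option backward.isDefEq.respectTransparency false

universe w v u

open CategoryTheory CategoryTheory.Limits CategoryTheory.Pretriangulated CochainComplex Opposite MonoidalCategory
open scoped ZeroObject

attribute [local instance] HasDerivedCategory.standard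

namespace Groth.Agent.ProKos

open Groth.Agent.RGammaD Groth.Agent.KFlatLib

section ProIso

variable {C : Type u} [Category.{v} C] {X Y Z : ARSys.PS C}

lemma tr_tr (X : ARSys.PS C) {n m l : ℕ} (h : n ≤ m) (h' : m ≤ l) :
    ARSys.tr X h' ≫ ARSys.tr X h = ARSys.tr X (h.trans h') :=
  Groth.Agent.TowerLib.EssConst.tr_comp X h h'

lemma tr_nat' (f : X ⟶ Y) {n m : ℕ} (h : n ≤ m) :
    ARSys.tr X h ≫ f.app (op n) = f.app (op m) ≫ ARSys.tr Y h :=
  f.naturality _

lemma isProIso_comp {f : X ⟶ Y} {g : Y ⟶ Z} (hf : DerCA.IsProIso f) (hg : DerCA.IsProIso g) :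
    DerCA.IsProIso (f ≫ g) := fun n => by
  obtain ⟨m, hnm, c, c1, c2⟩ := hf n
  obtain ⟨p, hmp, d, d1, d2⟩ := hg m
  refine ⟨p, hnm.trans hmp, d ≫ c, ?_, ?_⟩
  · rw [NatTrans.comp_app, Category.assoc, reassoc_of% d1, ← Category.assoc, ← tr_nat' f hmp, Category.assoc, c1, tr_tr]
  · rw [NatTrans.comp_app, Category.assoc, reassoc_of% c2, tr_nat' g hnm, reassoc_of% d2, tr_tr]

lemma isProIso_cancel {f : X ⟶ Y} {g : Y ⟶ Z} (hf : DerCA.IsProIso f) (hfg : DerCA.IsProIso (f ≫ g)) :
    DerCA.IsProIso g := fun n => by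
  obtain ⟨m, hnm, c, c1, c2⟩ := hf n
  obtain ⟨p, hmp, d, d1, d2⟩ := hfg m
  obtain ⟨q, hpq, c', c1', c2'⟩ := hf p
  have key : f.app (op p) ≫ g.app (op p) ≫ d ≫ f.app (op m) ≫ ARSys.tr Y hnm =
      f.app (op p) ≫ ARSys.tr Y (hnm.trans hmp) := by
    rw [NatTrans.comp_app, Category.assoc] at d1
    rw [reassoc_of% d1, ← Category.assoc, tr_nat' f hmp, Category.assoc, tr_tr]
  refine ⟨q, (hnm.trans hmp).trans hpq, ARSys.tr Z hpq ≫ d ≫ f.app (op m) ≫ ARSys.tr Y hnm, ?_, ?_⟩
  · rw [← Category.assoc, ← tr_nat' g hpq, Category.assoc, ← c2', Category.assoc, key, reassoc_of% c2', tr_tr]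
  · rw [NatTrans.comp_app] at d2
    simp only [Category.assoc]
    rw [tr_nat' g hnm, reassoc_of% d2, tr_tr, tr_tr]

lemma isProIso_of_levelwise (f : X ⟶ Y) (h : ∀ n, IsIso (f.app (op n))) : DerCA.IsProIso f := fun n => by
  haveI := h n
  refine ⟨n, le_rfl, inv (f.app (op n)), ?_, ?_⟩
  · rw [IsIso.hom_inv_id]
    exact (X.map_id _).symm
  · rw [IsIso.inv_hom_id]
    exact (Y.map_id _).symm

lemma isProIso_of_arrow_iso' {X' Y' : ARSys.PS C} {f : X ⟶ Y} {f' : X' ⟶ Y'} (eX : X ≅ X') (eY : Y ≅ Y')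
    (w : eX.hom ≫ f' = f ≫ eY.hom) (h : DerCA.IsProIso f) : DerCA.IsProIso f' :=
  isProIso_cancel (isProIso_of_levelwise eX.hom fun n => inferInstance)
    (w ▸ isProIso_comp h (isProIso_of_levelwise eY.hom fun n => inferInstance))

lemma isProIso_whiskerRight {D : Type*} [Category D] (F : C ⥤ D) {f : X ⟶ Y} (hf : DerCA.IsProIso f) :
    DerCA.IsProIso (Functor.whiskerRight f F) := fun n => by
  obtain ⟨m, h, c, c1, c2⟩ := hf n
  exact ⟨m, h, F.map c, (F.map_comp _ _).symm.trans (congrArg F.map c1), (F.map_comp _ _).symm.trans (congrArg F.map c2)⟩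

end ProIso

variable {A : Type u} [CommRing A]

lemma isZero_tensor_X (K L : DRing.Cx A) (n : ℤ) (h : ∀ p q, p + q = n → IsZero (K.X p) ∨ IsZero (L.X q)) :
    IsZero ((K ⊗ L).X n) := by
  rw [IsZero.iff_id_eq_zero]
  refine HomologicalComplex.mapBifunctor.hom_ext (fun p q hpq => IsZero.eq_of_src ?_ _ _)
  rcases h p q hpq with hK | hL
  · exact ((curriedTensor (ModuleCat.{u} A)).map_isZero hK).obj (L.X q)
  · exact ((curriedTensor (ModuleCat.{u} A)).obj (K.X p)).map_isZero hL

lemma isZero_cone_X {K L : DRing.Cx A} (φ : K ⟶ L) (p : ℤ) (h1 : IsZero (K.X (p + 1))) (h2 : IsZero (L.X p)) :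
    IsZero ((mappingCone φ).X p) := by
  rw [IsZero.iff_id_eq_zero]
  exact (mappingCone.ext_from_iff _ (p + 1) p rfl _ _).2 ⟨h1.eq_of_src _ _, h2.eq_of_src _ _⟩

/-- Pro-zero bounded cones give pro-isomorphisms in the derived category. -/
theorem isProIso_of_pz {X Y : Sys A} (a : X ⟶ Y) (lo hi : ℤ) (hle : lo ≤ hi) (hpz : PZ (coneSys a))
    (hb : ∀ n p, (p < lo ∨ hi < p) → IsZero (((coneSys a).obj (op n)).X p)) :
    DerCA.IsProIso (Functor.whiskerRight a DerivedCategory.Q) := by
  let Q : DRing.Cx A ⥤ Dual.D A := DerivedCategory.Q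
  let Hh := DerivedCategory.homologyFunctor (ModuleCat.{u} A)
  let fac := fun i => DerivedCategory.homologyFunctorFactors (ModuleCat.{u} A) i
  let Z : ARSys.PS (Dual.D A) := coneSys a ⋙ Q
  let z : Z ⟶ Z := { app := fun n => (0 : Z.obj n ⟶ Z.obj n), naturality := fun _ _ _ => comp_zero.trans zero_comp.symm }
  have hbd : ∀ (n : ℕ) (i : ℤ), i < lo ∨ hi < i → IsZero ((Hh i).obj (Z.obj (op n))) := fun n i hi' =>
    (ShortComplex.isZero_homology_of_isZero_X₂ _ (hb n i hi')).of_iso ((fac i).app _)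
  have hZero : DerCA.IsProIso z := by
    refine S6588.result.{u + 1, u, u + 1} (A := ModuleCat.{u} A) Z Z z lo hi hle hbd hbd (fun i n => ?_)
    obtain ⟨m, h, hm⟩ := hpz n i
    have h0 : (Hh i).map (ARSys.tr Z h) = 0 := by
      refine (((fac i).app ((coneSys a).obj (op n))).cancel_iso_hom_right _ _).1 (Eq.trans ?_ zero_comp.symm)
      refine ((fac i).hom.naturality (tr (coneSys a) h)).trans ?_
      exact (congrArg (_ ≫ ·) hm).trans comp_zero
    exact ⟨m, h, (0 : (Hh i).obj (Z.obj (op m)) ⟶ (Hh i).obj (Z.obj (op n))), comp_zero.trans h0.symm, zero_comp.trans h0.symm⟩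
  have hPZ : DerCA.IsProZero Z := fun n => by
    obtain ⟨m, h, b, h1, -⟩ := hZero n
    exact ⟨m, h, h1.symm.trans (show (0 : Z.obj (op m) ⟶ Z.obj (op m)) ≫ b = 0 from zero_comp)⟩
  let g : Y ⋙ Q ⟶ Z :=
    { app := fun n => Q.map (mappingCone.inr (a.app n))
      naturality := fun m n u => by
        refine (Q.map_comp _ _).symm.trans (Eq.trans ?_ (Q.map_comp _ _))
        refine congrArg Q.map (HomologicalComplex.hom_ext _ _ fun p => ?_)
        simp [mappingCone.map] }
  let hh : Z ⟶ (X ⋙ Q) ⋙ shiftFunctor (Dual.D A) (1 : ℤ) :=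
    { app := fun n => Q.map (mappingCone.triangle (a.app n)).mor₃ ≫ (Q.commShiftIso (1 : ℤ)).hom.app (X.obj n)
      naturality := fun m n u => by
        show Q.map _ ≫ Q.map _ ≫ _ = (Q.map _ ≫ _) ≫ _
        rw [← Category.assoc, ← Functor.map_comp, coneSys_map, map_comm₃, Functor.map_comp, Category.assoc, Category.assoc]
        exact congrArg (_ ≫ ·) ((Q.commShiftIso (1 : ℤ)).hom.naturality (X.map u)) }
  exact S6587.result (X ⋙ Q) (Y ⋙ Q) Z (Functor.whiskerRight a Q) g hh
    (fun n => DerivedCategory.mappingCone_triangle_distinguished (a.app (op n))) hPZ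

/-- The symmetry, natural in the first complex. -/
noncomputable def flipTensIso (K : DRing.Cx A) :
    (curriedTensor (ModuleCat.{u} A)).map₂CochainComplex.flip.obj K ≅ tensorLeft K :=
  NatIso.ofComponents (fun L => DTen.braidCx L K) fun {L L'} f => by
    refine Eq.trans ?_ ((DTen.braidCx_naturality f (𝟙 K)).trans ?_)
    · rfl
    · rw [MonoidalCategory.id_tensorHom]
      rfl

theorem isProIso_tens [IsNoetherianRing A] {I : Ideal A} (fs : List A) (hfs : Ideal.span {x : A | x ∈ fs} = I)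
    (hmem : ∀ f ∈ fs, f ∈ I) (K : DRing.Cx A) (a b : ℤ) (hK : ∀ p, p < a ∨ b < p → IsZero (K.X p))
    (hKf : ∀ p, Module.Finite A (K.X p)) :
    DerCA.IsProIso (Functor.whiskerRight (Functor.whiskerRight (proj I fs hmem) (tensorLeft K)) DerivedCategory.Q) := by
  have h1 := pz_dev fs hfs hmem (b - a).toNat a K (fun p hp => hK p (by omega)) hKf
  have h2 := pz_coneSys_of_iso (Functor.whiskerRight (proj I fs hmem)
      ((curriedTensor (ModuleCat.{u} A)).map₂CochainComplex.flip.obj K)) (Functor.whiskerRight (proj I fs hmem) (tensorLeft K))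
    (Functor.isoWhiskerLeft (kosSys fs (one A)) (flipTensIso K)) (Functor.isoWhiskerLeft (adicCx I) (flipTensIso K))
    (NatTrans.ext (funext fun n => by exact (flipTensIso K).hom.naturality _)) h1
  refine isProIso_of_pz _ (a - fs.length - 1) (max b (a - fs.length - 1)) (le_max_right _ _) h2 fun n p hp => ?_
  refine isZero_cone_X _ p (isZero_tensor_X _ _ _ fun x y hxy => ?_) (isZero_tensor_X _ _ _ fun x y hxy => ?_)
  · by_cases hx : x < a ∨ b < x
    · exact Or.inl (hK x hx)
    · exact Or.inr (isZero_kos_X fs _ y (by omega))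
  · by_cases hx : x < a ∨ b < x
    · exact Or.inl (hK x hx)
    · exact Or.inr (HomologicalComplex.isZero_single_obj_X _ _ _ _ (by omega))

/-- The projection is a pro-isomorphism in the derived category. -/
theorem isProIso_proj [IsNoetherianRing A] {I : Ideal A} (fs : List A) (hfs : Ideal.span {x : A | x ∈ fs} = I)
    (hmem : ∀ f ∈ fs, f ∈ I) : DerCA.IsProIso (Functor.whiskerRight (proj I fs hmem) DerivedCategory.Q) := by
  have hfin : ∀ p, Module.Finite A ((𝟙_ (DRing.Cx A)).X p) := fun p => by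
    by_cases hp : p = 0
    · subst hp
      exact Module.Finite.equiv (HomologicalComplex.singleObjXSelf (ComplexShape.up ℤ) 0 (ModuleCat.of A A)).toLinearEquiv.symm
    · exact finite_of_isZero (HomologicalComplex.isZero_single_obj_X _ _ _ _ hp)
  have h := isProIso_tens fs hfs hmem (𝟙_ (DRing.Cx A)) 0 0
    (fun p hp => HomologicalComplex.isZero_single_obj_X _ _ _ _ (by omega)) hfin
  let e := MonoidalCategory.leftUnitorNatIso (DRing.Cx A)
  refine isProIso_of_arrow_iso'
    (Functor.isoWhiskerRight (Functor.isoWhiskerLeft (kosSys fs (one A)) e ≪≫ Functor.rightUnitor _) DerivedCategory.Q)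
    (Functor.isoWhiskerRight (Functor.isoWhiskerLeft (adicCx I) e ≪≫ Functor.rightUnitor _) DerivedCategory.Q) ?_ h
  refine NatTrans.ext (funext fun n => (DerivedCategory.Q.map_comp _ _).symm.trans
    ((congrArg DerivedCategory.Q.map ?_).trans (DerivedCategory.Q.map_comp _ _)))
  show (e.hom.app _ ≫ 𝟙 _) ≫ _ = _ ≫ e.hom.app _ ≫ 𝟙 _
  rw [Category.comp_id, Category.comp_id]
  exact (e.hom.naturality _).symm

theorem isProIso_εLeft [IsNoetherianRing A] [DTen.HasLTen A] [DTen.KFlatComputes A] (I : Ideal A) (K : DRing.Cx A)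
    (a b : ℤ) (hK : ∀ p, p < a ∨ b < p → IsZero (K.X p)) (hKf : ∀ p, Module.Finite A (K.X p)) :
    DerCA.IsProIso (Functor.whiskerLeft (adicCx I) (DTen.εLeft A K)) := by
  obtain ⟨s, hs⟩ := IsNoetherian.noetherian I
  have hfs : Ideal.span {x : A | x ∈ s.toList} = I := by simpa using hs
  have hmem : ∀ f ∈ s.toList, f ∈ I := fun f hf => hfs ▸ Ideal.subset_span hf
  let P := kosSys s.toList (one A)
  have hε : DerCA.IsProIso (Functor.whiskerLeft P (DTen.εLeft A K)) := isProIso_of_levelwise _ fun n =>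
    DTen.KFlatComputes.isIso_counit K (P.obj (op n)) (Or.inr fun M hM => kFlat_kos s.toList (op n) M hM)
  refine isProIso_cancel (f := Functor.whiskerRight (proj I s.toList hmem)
      (DerivedCategory.Q ⋙ (DTen.LTen A).obj (DerivedCategory.Q.obj K)))
    (isProIso_whiskerRight ((DTen.LTen A).obj (DerivedCategory.Q.obj K)) (isProIso_proj s.toList hfs hmem)) ?_
  have hsq : Functor.whiskerRight (proj I s.toList hmem) (DerivedCategory.Q ⋙ (DTen.LTen A).obj (DerivedCategory.Q.obj K)) ≫
      Functor.whiskerLeft (adicCx I) (DTen.εLeft A K) = Functor.whiskerLeft P (DTen.εLeft A K) ≫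
        Functor.whiskerRight (proj I s.toList hmem) (tensorLeft K ⋙ DerivedCategory.Q) :=
    NatTrans.ext (funext fun n => (DTen.εLeft A K).naturality _)
  rw [hsq]
  exact isProIso_comp hε (isProIso_tens s.toList hfs hmem K a b hK hKf)

end Groth.Agent.ProKos
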