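import Groth.Agent.ProKos.Cone
import Groth.Agent.RGammaD.Basic

/-! The inverse system of Koszul complexes on powers: pro-zero in negative degrees. -/

set_option autoImplicit false
set_option linter.style.haveILetI false
set_option backward.isDefEq.respectTransparency false

universe u

open CategoryTheory CategoryTheory.Limits CategoryTheory.Pretriangulated CochainComplex Opposite

attribute [local instance] HasDerivedCategory.standard

namespace Groth.Agent.ProKos

open Groth.Agent.RGammaD Groth.Agent.KFlatLib

variable {A : Type u} [CommRing A]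

/-- Cones of `f^(n+1)` on a system; the transition from `m` to `n` is `f^(m-n)` on the shifted part. -/
@[simps]
noncomputable def powCone (f : A) (Y : Sys A) : Sys A where
  obj n := mappingCone (f ^ (n.unop + 1) • 𝟙 (Y.obj n))
  map {m n} g := mappingCone.map _ _ (f ^ (m.unop - n.unop) • Y.map g) (Y.map g) (by
    have h : n.unop ≤ m.unop := leOfHom g.unop
    simp only [Linear.smul_comp, Linear.comp_smul, Category.id_comp, Category.comp_id, smul_smul, ← pow_add]
    congr 2
    omega)
  map_id n := by simp [mappingCone.map_id]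
  map_comp {m n k} g g' := by
    have h : n.unop ≤ m.unop := leOfHom g.unop
    have h' : k.unop ≤ n.unop := leOfHom g'.unop
    rw [← mappingCone.map_comp]
    congr 1
    · simp only [Linear.smul_comp, Linear.comp_smul, smul_smul, ← pow_add, Functor.map_comp]
      congr 2
      omega
    · exact Y.map_comp g g'

/-- The inclusion into the cone. -/
noncomputable def powConeInr (f : A) (Y : Sys A) : Y ⟶ powCone f Y where
  app n := mappingCone.inr _
  naturality _ _ g := by
    refine HomologicalComplex.hom_ext _ _ fun p => ?_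
    simp [mappingCone.map]

/-- The Koszul systems on `X0`. -/
noncomputable def kosSys : List A → DRing.Cx A → Sys A
  | [], X0 => (Functor.const ℕᵒᵖ).obj X0
  | f :: r, X0 => powCone f (kosSys r X0)

/-- The inclusion of `X0`. -/
noncomputable def kosInc : ∀ (fs : List A) (X0 : DRing.Cx A), (Functor.const ℕᵒᵖ).obj X0 ⟶ kosSys fs X0
  | [], _ => 𝟙 _
  | f :: r, X0 => kosInc r X0 ≫ powConeInr f (kosSys r X0)

/-- The ideal of powers. -/
def pw : List A → ℕ → Ideal A
  | [], _ => ⊥
  | f :: r, n => Ideal.span {f ^ (n + 1)} ⊔ pw r n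

lemma pw_anti : ∀ (fs : List A) {n m : ℕ}, n ≤ m → pw fs m ≤ pw fs n
  | [], _, _, _ => le_rfl
  | f :: r, n, m, h => sup_le_sup ((Ideal.span_singleton_le_iff_mem _).2
      (Ideal.mem_span_singleton.2 (pow_dvd_pow f (by omega)))) (pw_anti r h)

lemma pow_mem_pw : ∀ {fs : List A} {f : A}, f ∈ fs → ∀ n, f ^ (n + 1) ∈ pw fs n
  | g :: r, f, h, n => by
    rcases List.mem_cons.1 h with rfl | h
    · exact Submodule.mem_sup_left (Ideal.mem_span_singleton_self _)
    · exact Submodule.mem_sup_right (pow_mem_pw h n)

lemma pw_le_pow {I : Ideal A} : ∀ {fs : List A}, (∀ f ∈ fs, f ∈ I) → ∀ n, pw fs n ≤ I ^ (n + 1)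
  | [], _, _ => bot_le
  | f :: r, h, n => sup_le ((Ideal.span_singleton_le_iff_mem _).2 (Ideal.pow_mem_pow (h f List.mem_cons_self) _))
      (pw_le_pow (fun g hg => h g (List.mem_cons_of_mem _ hg)) n)

lemma map_smul_apply (q : ℤ) {K L : DRing.Cx A} (a : A) (φ : K ⟶ L) (x : K.homology q) :
    ((H q).map (a • φ)).hom x = a • ((H q).map φ).hom x := by
  rw [← Category.comp_id φ, ← Linear.comp_smul, Functor.map_comp, Category.comp_id]
  exact (congrArg (fun t => t.hom (((H q).map φ).hom x)) (homologyMap_smul_id L a q)).trans rfl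

/-- Pro-zero homology in negative degrees; degree zero is the quotient by the powers. -/
structure Good (fs : List A) (X0 : DRing.Cx A) : Prop where
  zero : ∀ n q, 0 < q → IsZero (((kosSys fs X0).obj (op n)).homology q)
  pz : ∀ q, q < 0 → PZq (kosSys fs X0) q
  surj : ∀ n, Function.Surjective ((H 0).map ((kosInc fs X0).app (op n))).hom
  ker : ∀ n x, ((H 0).map ((kosInc fs X0).app (op n))).hom x = 0 ↔ x ∈ pw fs n • (⊤ : Submodule A (X0.homology 0))

theorem good [IsNoetherianRing A] (X0 : DRing.Cx A) (h0 : ∀ q, q ≠ 0 → IsZero (X0.homology q))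
    [Module.Finite A (X0.homology 0)] : ∀ fs : List A, Good fs X0
  | [] => by
    refine ⟨fun n q hq => h0 q (by omega), fun q hq n => ⟨n, le_rfl, fun x => ?_⟩, fun n x => ⟨x, ?_⟩, fun n x => ?_⟩
    · haveI := ModuleCat.subsingleton_of_isZero (h0 q (by omega))
      exact Subsingleton.elim (α := X0.homology q) _ _
    · show ((H 0).map (𝟙 X0)).hom x = x
      rw [CategoryTheory.Functor.map_id]
      rfl
    · show ((H 0).map (𝟙 X0)).hom x = 0 ↔ x ∈ (⊥ : Ideal A) • (⊤ : Submodule A (X0.homology 0))
      rw [CategoryTheory.Functor.map_id, Submodule.bot_smul, Submodule.mem_bot]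
      rfl
  | f :: r => by
    obtain ⟨hz, hpz, hsurj, hker⟩ := good X0 h0 r
    let Y := kosSys r X0
    let C := powCone f Y
    let φ := fun n : ℕ => f ^ (n + 1) • 𝟙 (Y.obj (op n))
    let sh := CategoryTheory.shiftFunctor (DRing.Cx A) (1 : ℤ)
    have hS : ∀ n : ℕ, (coneSeq (φ n)).ShortExact := fun n =>
      HomologicalComplex.shortExact_of_degreewise_shortExact _ fun p => (coneSeqSplitting _ p).shortExact
    let e := fun q => CochainComplex.ShiftSequence.shiftIso (ModuleCat.{u} A) (1 : ℤ) q (1 + q) rfl
    let p := fun (q : ℤ) (n : ℕ) (x : (C.obj (op n)).homology q) =>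
      ((e q).hom.app (Y.obj (op n))).hom (((H q).map (mappingCone.triangle (φ n)).mor₃).hom x)
    have hpnat : ∀ (q : ℤ) {n m : ℕ} (h : n ≤ m) (x : (C.obj (op m)).homology q),
        p q n (((H q).map (tr C h)).hom x) = f ^ (m - n) • ((H (1 + q)).map (tr Y h)).hom (p q m x) := by
      intro q n m h x
      have hw : φ m ≫ tr Y h = (f ^ (m - n) • tr Y h) ≫ φ n := by
        simp only [φ, Linear.smul_comp, Linear.comp_smul, Category.id_comp, Category.comp_id, smul_smul, ← pow_add]
        congr 2
        omega
      have h1 : tr C h ≫ (mappingCone.triangle (φ n)).mor₃ =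
          (mappingCone.triangle (φ m)).mor₃ ≫ sh.map (f ^ (m - n) • tr Y h) := map_comm₃ _ _ _ _ hw
      rw [← map_smul_apply]
      refine Eq.trans ?_ (ConcreteCategory.congr_hom ((e q).hom.naturality (f ^ (m - n) • tr Y h)) _)
      refine congrArg ((e q).hom.app (Y.obj (op n))).hom ?_
      show ((H q).map (tr C h) ≫ (H q).map (mappingCone.triangle (φ n)).mor₃).hom x =
        ((H q).map (mappingCone.triangle (φ m)).mor₃ ≫ (H q).map (sh.map (f ^ (m - n) • tr Y h))).hom x
      rw [← Functor.map_comp, ← Functor.map_comp, h1]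
      rfl
    have hpinj : ∀ (q : ℤ) (n : ℕ) (x : (C.obj (op n)).homology q), p q n x = 0 →
        ∃ y, ((H q).map ((powConeInr f Y).app (op n))).hom y = x := by
      intro q n x hx
      refine (ShortComplex.moduleCat_exact_iff _).1 ((hS n).homology_exact₂ q) x ?_
      exact ((e q).app (Y.obj (op n))).toLinearEquiv.injective (hx.trans (map_zero _).symm)
    have hpf : ∀ (q : ℤ) (n : ℕ) (x : (C.obj (op n)).homology q), f ^ (n + 1) • p q n x = 0 := by
      intro q n x
      have h1 := homologyMap_mor₃_comp (φ n) q x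
      have h2 := congrArg ((e q).hom.app (Y.obj (op n))).hom h1
      rw [map_zero, Functor.map_comp] at h2
      have h3 : ((H (1 + q)).map (φ n)).hom (p q n x) = 0 :=
        (ConcreteCategory.congr_hom ((e q).hom.naturality (φ n))
          (((H q).map (mappingCone.triangle (φ n)).mor₃).hom x)).symm.trans h2
      rw [show ((H (1 + q)).map (φ n)).hom (p q n x) = f ^ (n + 1) • ((H (1 + q)).map (𝟙 _)).hom (p q n x) from
        map_smul_apply _ _ _ _, CategoryTheory.Functor.map_id] at h3
      exact h3
    have hinrf : ∀ (q : ℤ) (n : ℕ) (y : (Y.obj (op n)).homology q),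
        ((H q).map ((powConeInr f Y).app (op n))).hom y = 0 → ∃ y', y = f ^ (n + 1) • y' := by
      intro q n y hy
      have hex := (DerivedCategory.homologyFunctor (ModuleCat.{u} A) q).map_distinguished_exact _
        (DerivedCategory.mappingCone_triangle_distinguished (φ n))
      rw [ShortComplex.moduleCat_exact_iff] at hex
      let fac := DerivedCategory.homologyFunctorFactors (ModuleCat.{u} A) q
      obtain ⟨w, hw⟩ := hex ((fac.app _).inv y) ((ConcreteCategory.congr_hom
        (fac.inv.naturality (mappingCone.inr (φ n))) y).symm.trans ((congrArg _ hy).trans (map_zero (fac.inv.app (mappingCone (φ n))).hom)))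
      refine ⟨(fac.app _).hom w, ?_⟩
      have h1 := (ConcreteCategory.congr_hom (fac.hom.naturality (φ n)) w).symm.trans
        ((congrArg (fac.app _).hom hw).trans (Iso.inv_hom_id_apply _ _))
      refine h1.symm.trans ((map_smul_apply q _ _ _).trans ?_)
      rw [CategoryTheory.Functor.map_id]
      rfl
    have hnat : ∀ (q : ℤ) {n m : ℕ} (h : n ≤ m) (y), ((H q).map (tr C h)).hom
        (((H q).map ((powConeInr f Y).app (op m))).hom y) =
          ((H q).map ((powConeInr f Y).app (op n))).hom (((H q).map (tr Y h)).hom y) := fun q _ _ h y =>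
      (map_natural (powConeInr f Y) q h y).symm
    refine ⟨fun n q hq => ?_, fun q hq n => ?_, fun n x => ?_, fun n x => ?_⟩
    · refine ModuleCat.isZero_iff_subsingleton.2 (subsingleton_of_forall_eq 0 fun x => ?_)
      haveI := ModuleCat.subsingleton_of_isZero (hz n (1 + q) (by omega))
      obtain ⟨y, rfl⟩ := hpinj q n x (Subsingleton.elim (α := (Y.obj (op n)).homology (1 + q)) _ _)
      haveI := ModuleCat.subsingleton_of_isZero (hz n q hq)
      exact (congrArg _ (Subsingleton.elim (α := (Y.obj (op n)).homology q) y 0)).trans (map_zero _)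
    · obtain ⟨k, hnk, hk⟩ := hpz q hq n
      suffices h : ∃ (m : ℕ) (h : k ≤ m), ∀ x, p q k (((H q).map (tr C h)).hom x) = 0 by
        obtain ⟨m, hkm, hm⟩ := h
        refine ⟨m, hnk.trans hkm, fun x => ?_⟩
        obtain ⟨y, hy⟩ := hpinj q k _ (hm x)
        refine (map_tr_comp C q hnk hkm x).symm.trans ?_
        rw [← hy, hnat, hk, map_zero]
      rcases lt_or_eq_of_le (show 1 + q ≤ 0 by omega) with hlt | heq
      · obtain ⟨m, hkm, hm⟩ := hpz (1 + q) hlt k
        exact ⟨m, hkm, fun x => by rw [hpnat, hm, smul_zero]⟩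
      · obtain rfl : q = -1 := by omega
        let M0 := X0.homology 0
        let P := pw r k • (⊤ : Submodule A M0)
        let K : ℕ →o Submodule A M0 :=
          ⟨fun c => P.comap (LinearMap.lsmul A M0 (f ^ c)), fun c d hcd x hx => by
            show f ^ d • x ∈ P
            rw [← Nat.sub_add_cancel hcd, pow_add, mul_smul]
            exact Submodule.smul_mem _ _ hx⟩
        obtain ⟨c, hc⟩ := monotone_stabilizes_iff_noetherian.2 (inferInstance : IsNoetherian A M0) K
        refine ⟨k + c, Nat.le_add_right _ _, fun x => ?_⟩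
        obtain ⟨z, hz'⟩ := hsurj (k + c) (p (-1) (k + c) x)
        rw [hpnat, Nat.add_sub_cancel_left]
        have hn : ((H 0).map (tr Y (Nat.le_add_right k c))).hom (((H 0).map ((kosInc r X0).app (op (k + c)))).hom z) =
            ((H 0).map ((kosInc r X0).app (op k))).hom z := by
          refine (map_natural (kosInc r X0) 0 (Nat.le_add_right k c) z).symm.trans (congrArg _ ?_)
          show ((H 0).map (((Functor.const ℕᵒᵖ).obj X0).map (homOfLE (Nat.le_add_right k c)).op)).hom z = z
          exact congrArg (fun t => t.hom z) ((H 0).map_id X0)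
        have h0' : f ^ (k + c + 1) • z ∈ P := by
          refine Submodule.smul_mono_left (pw_anti r (Nat.le_add_right k c)) ((hker (k + c) _).1 ?_)
          rw [map_smul, hz']
          exact hpf _ _ _
        have h1 : f ^ c • z ∈ P := by
          have : z ∈ K (k + c + 1) := h0'
          rwa [← hc (k + c + 1) (by omega)] at this
        show f ^ c • ((H 0).map (tr Y (Nat.le_add_right k c))).hom (p (-1) (k + c) x) = 0
        rw [← hz', hn, ← map_smul]
        exact (hker k _).2 h1
    · obtain ⟨y, hy⟩ := hpinj 0 n x (by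
        haveI := ModuleCat.subsingleton_of_isZero (hz n (1 + 0) (by omega))
        exact Subsingleton.elim (α := (Y.obj (op n)).homology (1 + 0)) _ _)
      obtain ⟨z, hz'⟩ := hsurj n y
      refine ⟨z, ?_⟩
      show ((H 0).map ((kosInc r X0).app (op n) ≫ (powConeInr f Y).app (op n))).hom z = x
      rw [Functor.map_comp]
      exact (congrArg _ hz').trans hy
    · show ((H 0).map ((kosInc r X0).app (op n) ≫ (powConeInr f Y).app (op n))).hom x = 0 ↔
        x ∈ (Ideal.span {f ^ (n + 1)} ⊔ pw r n) • (⊤ : Submodule A (X0.homology 0))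
      rw [Functor.map_comp, Submodule.sup_smul]
      constructor
      · intro hx
        obtain ⟨y', hy'⟩ := hinrf 0 n _ hx
        obtain ⟨z, rfl⟩ := hsurj n y'
        have : x - f ^ (n + 1) • z ∈ pw r n • (⊤ : Submodule A (X0.homology 0)) :=
          (hker n _).1 (by rw [map_sub, map_smul]; exact sub_eq_zero.2 hy')
        exact Submodule.mem_sup.2 ⟨_, Submodule.smul_mem_smul (Ideal.mem_span_singleton_self _)
          (Submodule.mem_top (x := z)), _, this, add_sub_cancel _ _⟩
      · intro hx
        obtain ⟨a, ha, b, hb, rfl⟩ := Submodule.mem_sup.1 hx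
        rw [map_add]
        have hb' : ((H 0).map ((kosInc r X0).app (op n))).hom b = 0 := (hker n b).2 hb
        rw [Submodule.ideal_span_singleton_smul, Submodule.mem_smul_pointwise_iff_exists] at ha
        obtain ⟨z, -, rfl⟩ := ha
        show ((H 0).map ((powConeInr f Y).app (op n))).hom (((H 0).map ((kosInc r X0).app (op n))).hom (f ^ (n + 1) • z)) +
          ((H 0).map ((powConeInr f Y).app (op n))).hom (((H 0).map ((kosInc r X0).app (op n))).hom b) = 0
        rw [hb', map_zero, add_zero, map_smul, map_smul, ← map_smul]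
        refine Eq.trans (congrArg _ ?_) (homologyMap_inr_comp (φ n) 0 (((H 0).map ((kosInc r X0).app (op n))).hom z))
        rw [show ((H 0).map (φ n)).hom _ = _ from map_smul_apply _ _ _ _, CategoryTheory.Functor.map_id]
        rfl

end Groth.Agent.ProKos
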