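import Groth.Agent.ProKos.Kos
import Groth.Agent.RGammaD.Cech

/-! Linear functors applied to the Koszul systems. -/

set_option autoImplicit false
set_option linter.style.haveILetI false
set_option backward.isDefEq.respectTransparency false
set_option backward.isDefEq.respectTransparency.types false

universe u

open CategoryTheory CategoryTheory.Limits CategoryTheory.Pretriangulated CochainComplex Opposite

attribute [local instance] HasDerivedCategory.standard

namespace Groth.Agent.ProKos

open Groth.Agent.RGammaD Groth.Agent.KFlatLib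

variable {A : Type u} [CommRing A] (G : ModuleCat.{u} A ⥤ ModuleCat.{u} A) [G.Additive]

/-- `G` termwise. -/
noncomputable abbrev GC : DRing.Cx A ⥤ DRing.Cx A := G.mapHomologicalComplex (ComplexShape.up ℤ)

/-- `G` commutes with cones. -/
noncomputable def mapIsoC {K L : DRing.Cx A} (φ : K ⟶ L) {t : (GC G).obj K ⟶ (GC G).obj L}
    (h : (GC G).map φ = t) : (GC G).obj (mappingCone φ) ≅ mappingCone t :=
  mappingCone.mapHomologicalComplexIso φ G ≪≫ coneCongr h

lemma mapIsoC_inr {K L : DRing.Cx A} (φ : K ⟶ L) {t : (GC G).obj K ⟶ (GC G).obj L} (h : (GC G).map φ = t) :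
    (GC G).map (mappingCone.inr φ) ≫ (mapIsoC G φ h).hom = mappingCone.inr t := by
  subst h
  refine (congrArg ((GC G).map (mappingCone.inr φ) ≫ ·) (Category.comp_id _)).trans ?_
  exact mappingCone.map_inr φ G

lemma mapIsoC_map {K L K' L' : DRing.Cx A} (φ : K ⟶ L) (φ' : K' ⟶ L') (a : K ⟶ K') (b : L ⟶ L')
    (w : φ ≫ b = a ≫ φ') {t : (GC G).obj K ⟶ (GC G).obj L} {t' : (GC G).obj K' ⟶ (GC G).obj L'}
    (h : (GC G).map φ = t) (h' : (GC G).map φ' = t') (w' : t ≫ (GC G).map b = (GC G).map a ≫ t') :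
    (GC G).map (mappingCone.map φ φ' a b w) ≫ (mapIsoC G φ' h').hom =
      (mapIsoC G φ h).hom ≫ mappingCone.map t t' ((GC G).map a) ((GC G).map b) w' := by
  subst h h'
  have e : ∀ {M N : DRing.Cx A} (ψ : M ⟶ N), (mapIsoC G ψ rfl).hom = (mappingCone.mapHomologicalComplexIso ψ G).hom :=
    fun ψ => Category.comp_id _
  rw [e, e]
  refine HomologicalComplex.hom_ext _ _ fun p => ?_
  refine mappingCone.ext_to _ p (p + 1) rfl ?_ ?_
  · simp only [HomologicalComplex.comp_f, Category.assoc]
    erw [mapIso_fst φ' G p, H1CechLC.map_f_fst, reassoc_of% (mapIso_fst φ G p)]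
    exact ((G.map_comp _ _).symm.trans ((congrArg G.map (H1CechLC.map_f_fst a b w p (p + 1) rfl)).trans (G.map_comp _ _)))
  · simp only [HomologicalComplex.comp_f, Category.assoc]
    erw [mapIso_snd φ' G p, H1CechLC.map_f_snd, reassoc_of% (mapIso_snd φ G p)]
    exact ((G.map_comp _ _).symm.trans ((congrArg G.map (H1CechLC.map_f_snd a b w p)).trans (G.map_comp _ _)))

variable (hG : ∀ (r : A) {X Y : ModuleCat.{u} A} (g : X ⟶ Y), G.map (r • g) = r • G.map g)

include hG in
lemma gc_smul (r : A) {X Y : DRing.Cx A} (φ : X ⟶ Y) : (GC G).map (r • φ) = r • (GC G).map φ :=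
  HomologicalComplex.hom_ext _ _ fun p => hG r (φ.f p)

include hG in
lemma gc_smul_id (r : A) (X : DRing.Cx A) : (GC G).map (r • 𝟙 X) = r • 𝟙 ((GC G).obj X) := by
  rw [gc_smul G hG, CategoryTheory.Functor.map_id]

/-- `G` commutes with `powCone`. -/
noncomputable def powConeMapIso (f : A) (Y : Sys A) : powCone f Y ⋙ GC G ≅ powCone f (Y ⋙ GC G) :=
  NatIso.ofComponents (fun n => mapIsoC G _ (gc_smul_id G hG (f ^ (n.unop + 1)) (Y.obj n))) fun {m n} g => by
    have h : n.unop ≤ m.unop := leOfHom g.unop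
    have w' : (f ^ (m.unop + 1) • 𝟙 ((GC G).obj (Y.obj m))) ≫ (GC G).map (Y.map g) =
        (GC G).map (f ^ (m.unop - n.unop) • Y.map g) ≫ (f ^ (n.unop + 1) • 𝟙 ((GC G).obj (Y.obj n))) := by
      rw [gc_smul G hG]
      simp only [Linear.smul_comp, Linear.comp_smul, Category.id_comp, Category.comp_id, smul_smul, ← pow_add]
      congr 2
      omega
    refine (mapIsoC_map G _ _ _ _ ?_ (gc_smul_id G hG (f ^ (m.unop + 1)) (Y.obj m)) _ w').trans ?_
    · simp only [Linear.smul_comp, Linear.comp_smul, Category.id_comp, Category.comp_id, smul_smul, ← pow_add]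
      congr 2
      omega
    congr 1
    simp only [powCone_map, gc_smul G hG]
    rfl

lemma powConeMapIso_inr (f : A) (Y : Sys A) (n : ℕᵒᵖ) :
    (GC G).map ((powConeInr f Y).app n) ≫ (powConeMapIso G hG f Y).hom.app n = (powConeInr f (Y ⋙ GC G)).app n :=
  mapIsoC_inr G _ _

/-- `powCone` of an isomorphism. -/
noncomputable def powConeIso (f : A) {Y Y' : Sys A} (e : Y ≅ Y') : powCone f Y ≅ powCone f Y' :=
  NatIso.ofComponents (fun n =>
    { hom := mappingCone.map _ _ (e.hom.app n) (e.hom.app n) (by simp)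
      inv := mappingCone.map _ _ (e.inv.app n) (e.inv.app n) (by simp)
      hom_inv_id := (mappingCone.map_comp _ _ _ _ _ _ _ _ _).symm.trans (by simp [mappingCone.map_id]; rfl)
      inv_hom_id := (mappingCone.map_comp _ _ _ _ _ _ _ _ _).symm.trans (by simp [mappingCone.map_id]; rfl) })
    fun {m n} g => by
      simp only [powCone_map]
      erw [← mappingCone.map_comp, ← mappingCone.map_comp]
      congr 1
      · rw [Linear.smul_comp, Linear.comp_smul, e.hom.naturality g]
      · exact e.hom.naturality g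

lemma powConeIso_inr (f : A) {Y Y' : Sys A} (e : Y ≅ Y') (n : ℕᵒᵖ) :
    (powConeInr f Y).app n ≫ (powConeIso f e).hom.app n = e.hom.app n ≫ (powConeInr f Y').app n := by
  refine HomologicalComplex.hom_ext _ _ fun p => ?_
  simp [powConeIso, powConeInr, mappingCone.map]

include hG in
/-- `G` of the Koszul system. -/
theorem exists_kosMapIso : ∀ (fs : List A) (X0 : DRing.Cx A),
    ∃ e : kosSys fs X0 ⋙ GC G ≅ kosSys fs ((GC G).obj X0),
      ∀ n, (GC G).map ((kosInc fs X0).app n) ≫ e.hom.app n = (kosInc fs ((GC G).obj X0)).app n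
  | [], X0 => ⟨NatIso.ofComponents (fun _ => Iso.refl _) (fun _ => by simp [kosSys]), fun n => by simp [kosInc, kosSys]⟩
  | f :: r, X0 => by
    obtain ⟨e, he⟩ := exists_kosMapIso r X0
    refine ⟨powConeMapIso G hG f (kosSys r X0) ≪≫ powConeIso f e, fun n => ?_⟩
    show (GC G).map ((kosInc r X0).app n ≫ (powConeInr f (kosSys r X0)).app n) ≫
      (powConeMapIso G hG f (kosSys r X0)).hom.app n ≫ (powConeIso f e).hom.app n =
        (kosInc r ((GC G).obj X0)).app n ≫ (powConeInr f (kosSys r ((GC G).obj X0))).app n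
    rw [Functor.map_comp, Category.assoc, ← he n]
    refine Eq.trans ?_ (Category.assoc _ _ _).symm
    refine congrArg ((GC G).map ((kosInc r X0).app n) ≫ ·) ?_
    rw [← Category.assoc, powConeMapIso_inr G hG, powConeIso_inr]

end Groth.Agent.ProKos
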